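import Mathlib

/-!
# Algebra for the Hartogs-type extension lemma (depth ≥ 2)
-/

set_option autoImplicit false

namespace Groth.Agent.Lib.Helper24.Hartogs

/-- elementary form of a weakly regular sequence of length two -/
def E {S : Type*} [CommRing S] (a b : S) : Prop :=
  (∀ x, a * x = 0 → x = 0) ∧ (∀ x y, b * x = a * y → ∃ d, x = a * d)

theorem E_of_isWeaklyRegular {S : Type*} [CommRing S] {a b : S}
    (h : RingTheory.Sequence.IsWeaklyRegular S [a, b]) : E a b := by
  rw [RingTheory.Sequence.isWeaklyRegular_cons_iff,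
    RingTheory.Sequence.isWeaklyRegular_singleton_iff] at h
  obtain ⟨h1, h2⟩ := h
  refine ⟨fun x hx => h1 (by simpa using hx), fun x y hxy => ?_⟩
  have h3 : b • (Submodule.Quotient.mk x : QuotSMulTop a S) = b • 0 := by
    rw [smul_zero, ← Submodule.Quotient.mk_smul, Submodule.Quotient.mk_eq_zero, smul_eq_mul, hxy]
    exact Submodule.smul_mem_pointwise_smul y a ⊤ trivial
  have h4 := h2 h3
  rw [Submodule.Quotient.mk_eq_zero] at h4
  obtain ⟨d, -, hd⟩ := (Submodule.mem_smul_pointwise_iff_exists _ _ _).1 h4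
  exact ⟨d, hd.symm⟩

theorem E.pow_left {S : Type*} [CommRing S] {a b : S} (h : E a b) (n : ℕ) : E (a ^ n) b := by
  refine ⟨?_, ?_⟩
  · induction n with
    | zero => intro x hx; simpa using hx
    | succ n ih =>
      intro x hx
      apply ih
      apply h.1
      rw [← mul_assoc, ← pow_succ']
      exact hx
  · induction n with
    | zero => intro x y _; exact ⟨x, by simp⟩
    | succ n ih =>
      intro x y hxy
      obtain ⟨x', hx'⟩ := h.2 x (a ^ n * y) (by rw [hxy, pow_succ']; ring)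
      have h1 : b * x' = a ^ n * y := by
        have : a * (b * x' - a ^ n * y) = 0 := by
          have : a * (b * x') = b * x := by rw [hx']; ring
          rw [mul_sub, this, hxy, pow_succ']
          ring
        exact sub_eq_zero.1 (h.1 _ this)
      obtain ⟨d, hd⟩ := ih x' y h1
      exact ⟨d, by rw [hx', hd, pow_succ']; ring⟩

theorem E.pow_right {S : Type*} [CommRing S] {a b : S} (h : E a b) (m : ℕ) (hm : 0 < m) :
    E a (b ^ m) := by
  refine ⟨h.1, ?_⟩
  induction m with
  | zero => exact absurd hm (lt_irrefl _)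
  | succ m ih =>
    intro x y hxy
    rcases Nat.eq_zero_or_pos m with rfl | hm'
    · exact h.2 x y (by simpa using hxy)
    · obtain ⟨d, hd⟩ := h.2 (b ^ m * x) y (by rw [← hxy, pow_succ']; ring)
      exact ih hm' x d hd

theorem E.mul_units {S : Type*} [CommRing S] {a b u v : S} (h : E a b) (hu : IsUnit u)
    (hv : IsUnit v) : E (a * u) (b * v) := by
  obtain ⟨u, rfl⟩ := hu
  obtain ⟨v, rfl⟩ := hv
  refine ⟨fun x hx => ?_, fun x y hxy => ?_⟩
  · have := h.1 (u * x) (by rw [← mul_assoc]; exact hx)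
    exact (Units.mul_right_eq_zero u).1 this
  · obtain ⟨d, hd⟩ := h.2 (v * x) (u * y) (by rw [← mul_assoc, hxy]; ring)
    refine ⟨(↑u⁻¹ : S) * (↑v⁻¹ : S) * d, ?_⟩
    have : x = (↑v⁻¹ : S) * (↑v * x) := by rw [← mul_assoc, Units.inv_mul, one_mul]
    rw [this, hd]
    have h2 : (u : S) * (↑u⁻¹ : S) = 1 := Units.mul_inv u
    calc (↑v⁻¹ : S) * (a * d) = a * ((u : S) * (↑u⁻¹ : S)) * ((↑v⁻¹ : S) * d) := by
          rw [h2]; ring
      _ = a * ↑u * (↑u⁻¹ * ↑v⁻¹ * d) := by ring

/-- the core computation -/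
theorem core {A M S : Type*} [CommRing A] [CommRing M] [CommRing S] [Algebra A S] (ρ : A →+* M)
    (p : Ideal A) [p.IsPrime] [IsLocalization.AtPrime S p]
    (hinj : Function.Injective ρ)
    (htors : ∀ (α : A) (m : M), (∀ x : S, algebraMap A S α * x = 0 → x = 0) → ρ α * m = 0 →
      ∃ w, w ∉ p ∧ ρ w * m = 0)
    (s : M) (ja jb ca cb : A) (hca : ρ ca = ρ ja * s) (hcb : ρ cb = ρ jb * s)
    (hE : E (algebraMap A S ja) (algebraMap A S jb)) :
    ∃ w, w ∉ p ∧ ∃ c, ρ c = ρ w * s := by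
  have h1 : jb * ca = ja * cb := by
    apply hinj
    rw [map_mul, map_mul, hca, hcb]
    ring
  obtain ⟨d, hd⟩ := hE.2 (algebraMap A S ca) (algebraMap A S cb) (by
    rw [← map_mul, ← map_mul, h1])
  obtain ⟨⟨d₀, w⟩, hdw⟩ := IsLocalization.surj p.primeCompl d
  have h2 : algebraMap A S (ca * w) = algebraMap A S (ja * d₀) := by
    rw [map_mul, map_mul, hd, ← hdw]
    ring
  obtain ⟨w', hw'⟩ := (IsLocalization.eq_iff_exists p.primeCompl S).1 h2
  -- in `M`: `ja • (w' w s - w' d₀) = 0`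
  have h3 : ρ ja * (ρ (w' * w) * s - ρ (w' * d₀)) = 0 := by
    have : ρ (w' * (ca * w)) = ρ (w' * (ja * d₀)) := by rw [hw']
    simp only [map_mul] at this ⊢
    rw [hca] at this
    linear_combination this
  obtain ⟨w'', hw''p, hw''⟩ := htors ja _ hE.1 h3
  refine ⟨w'' * (w' * w), ?_, w'' * (w' * d₀), ?_⟩
  · intro hmem
    rcases Ideal.IsPrime.mem_or_mem inferInstance hmem with h | h
    · exact hw''p h
    · rcases Ideal.IsPrime.mem_or_mem inferInstance h with h | h
      · exact w'.2 h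
      · exact w.2 h
  · simp only [map_mul] at hw'' ⊢
    linear_combination -hw''

/-- ring-level Hartogs: the conductor ideal of `s` has no minimal prime at which the local ring has
depth ≥ 2. -/
theorem false_of_minimalPrime {A M S : Type*} [CommRing A] [CommRing M] [CommRing S] [Algebra A S]
    [IsLocalRing S] (ρ : A →+* M)
    (p : Ideal A) [p.IsPrime] [IsLocalization.AtPrime S p]
    (hinj : Function.Injective ρ)
    (htors : ∀ (α : A) (m : M), (∀ x : S, algebraMap A S α * x = 0 → x = 0) → ρ α * m = 0 →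
      ∃ w, w ∉ p ∧ ρ w * m = 0)
    (s : M) (J : Ideal A) (hJ : ∀ a, a ∈ J ↔ ∃ c, ρ c = ρ a * s) (hp : p ∈ J.minimalPrimes)
    (a b : S) (ha : a ∈ IsLocalRing.maximalIdeal S) (hb : b ∈ IsLocalRing.maximalIdeal S)
    (hab : RingTheory.Sequence.IsWeaklyRegular S [a, b]) : False := by
  have h1 : (J.map (algebraMap A S)).radical = IsLocalRing.maximalIdeal S := by
    rw [IsLocalization.AtPrime.radical_map_of_mem_minimalPrimes (A := S) p _ hp,
      IsLocalization.AtPrime.map_eq_maximalIdeal p S]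
  rw [← h1] at ha hb
  obtain ⟨n, hn⟩ := ha
  obtain ⟨m, hm⟩ := hb
  have hm' : b ^ (m + 1) ∈ J.map (algebraMap A S) := by
    rw [pow_succ]
    exact Ideal.mul_mem_right _ _ hm
  obtain ⟨⟨⟨ja, hja⟩, wa⟩, hwa⟩ := (IsLocalization.mem_map_algebraMap_iff p.primeCompl S).1 hn
  obtain ⟨⟨⟨jb, hjb⟩, wb⟩, hwb⟩ := (IsLocalization.mem_map_algebraMap_iff p.primeCompl S).1 hm'
  have hE : E (algebraMap A S ja) (algebraMap A S jb) := by
    have := ((E_of_isWeaklyRegular hab).pow_left n).pow_right (m + 1) (Nat.succ_pos m)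
    have h2 := this.mul_units (IsLocalization.map_units S wa) (IsLocalization.map_units S wb)
    rw [hwa, hwb] at h2
    exact h2
  obtain ⟨ca, hca⟩ := (hJ ja).1 hja
  obtain ⟨cb, hcb⟩ := (hJ jb).1 hjb
  obtain ⟨w, hwp, c, hc⟩ := core ρ p hinj htors s ja jb ca cb hca hcb hE
  exact hwp (hp.1.2 ((hJ w).2 ⟨c, hc⟩))

end Groth.Agent.Lib.Helper24.Hartogs
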