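import Mathlib
import Groth.Agent.Lib.Helper24.Hartogs.Alg

/-!
# Torsion lemma: sections over a quasi-compact open of an affine open, localized at a prime
-/

set_option autoImplicit false
universe u

open AlgebraicGeometry CategoryTheory Limits TopologicalSpace

namespace Groth.Agent.Lib.Helper24.Hartogs

theorem res_res {X : Scheme.{u}} {V W D : X.Opens} (hWV : W ≤ V) (hDW : D ≤ W) (a : Γ(X, V)) :
    (X.presheaf.map (homOfLE hDW).op).hom ((X.presheaf.map (homOfLE hWV).op).hom a) =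
      (X.presheaf.map (homOfLE (hDW.trans hWV)).op).hom a := by
  rw [← CommRingCat.comp_apply, ← Functor.map_comp]
  rfl

/-- local step of the torsion lemma -/
theorem exists_notMem_res_eq_zero {X : Scheme.{u}} {V W : X.Opens} (hV : IsAffineOpen V)
    (hWV : W ≤ V) (p : Ideal Γ(X, V)) [p.IsPrime] (α : Γ(X, V))
    (hα : ∀ x : Γ(X, V), α * x = 0 → ∃ w, w ∉ p ∧ w * x = 0)
    (m : Γ(X, W)) (hm : (X.presheaf.map (homOfLE hWV).op).hom α * m = 0)
    (g : Γ(X, V)) (hg : X.basicOpen g ≤ W) :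
    ∃ w, w ∉ p ∧ (X.presheaf.map (homOfLE hg).op).hom
      ((X.presheaf.map (homOfLE hWV).op).hom w * m) = 0 := by
  letI : Algebra Γ(X, V) Γ(X, X.basicOpen g) :=
    (X.presheaf.map (homOfLE (X.basicOpen_le g)).op).hom.toAlgebra
  haveI : IsLocalization.Away g Γ(X, X.basicOpen g) :=
    hV.isLocalization_of_eq_basicOpen g (homOfLE (X.basicOpen_le g)) rfl
  have halg : ∀ a : Γ(X, V), algebraMap Γ(X, V) Γ(X, X.basicOpen g) a =
      (X.presheaf.map (homOfLE hg).op).hom ((X.presheaf.map (homOfLE hWV).op).hom a) := by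
    intro a
    rw [res_res]
    rfl
  obtain ⟨⟨n, ⟨_, k, rfl⟩⟩, hnk⟩ := IsLocalization.surj (Submonoid.powers g)
    ((X.presheaf.map (homOfLE hg).op).hom m)
  simp only at hnk
  have h0 : (X.presheaf.map (homOfLE (X.basicOpen_le g)).op).hom (α * n) = 0 := by
    change algebraMap Γ(X, V) Γ(X, X.basicOpen g) (α * n) = 0
    rw [map_mul, ← hnk, ← mul_assoc, halg α, ← map_mul, hm, map_zero, zero_mul]
  obtain ⟨l, hl⟩ := exists_pow_mul_eq_zero_of_res_basicOpen_eq_zero_of_isAffineOpen X hV (α * n) g h0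
  obtain ⟨w, hwp, hw⟩ := hα (g ^ l * n) (by rw [← hl]; ring)
  refine ⟨w, hwp, ?_⟩
  rw [map_mul, ← halg w]
  have hu1 : IsUnit (algebraMap Γ(X, V) Γ(X, X.basicOpen g) (g ^ k)) :=
    IsLocalization.map_units _ (⟨g ^ k, k, rfl⟩ : Submonoid.powers g)
  have hu2 : IsUnit (algebraMap Γ(X, V) Γ(X, X.basicOpen g) (g ^ l)) :=
    IsLocalization.map_units _ (⟨g ^ l, l, rfl⟩ : Submonoid.powers g)
  have h1 : algebraMap Γ(X, V) Γ(X, X.basicOpen g) (g ^ l) *
      (algebraMap Γ(X, V) Γ(X, X.basicOpen g) w * (X.presheaf.map (homOfLE hg).op).hom m *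
        algebraMap Γ(X, V) Γ(X, X.basicOpen g) (g ^ k)) = 0 := by
    rw [mul_assoc (algebraMap Γ(X, V) Γ(X, X.basicOpen g) w), hnk, ← map_mul, ← map_mul]
    have : g ^ l * (w * n) = w * (g ^ l * n) := by ring
    rw [this, hw, map_zero]
  have h2 := (hu2.mul_right_eq_zero).1 h1
  exact (hu1.mul_left_eq_zero).1 h2

/-- torsion lemma: if `α` is a nonzerodivisor "at `p`", then `α`-torsion sections over a
quasi-compact open `W ⊆ V` are killed by an element outside `p`. -/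
theorem exists_notMem_mul_eq_zero {X : Scheme.{u}} {V W : X.Opens} (hV : IsAffineOpen V)
    (hWV : W ≤ V) (hW : IsCompact (W : Set X)) (p : Ideal Γ(X, V)) [p.IsPrime] (α : Γ(X, V))
    (hα : ∀ x : Γ(X, V), α * x = 0 → ∃ w, w ∉ p ∧ w * x = 0)
    (m : Γ(X, W)) (hm : (X.presheaf.map (homOfLE hWV).op).hom α * m = 0) :
    ∃ w, w ∉ p ∧ (X.presheaf.map (homOfLE hWV).op).hom w * m = 0 := by
  have key : ∃ w, w ∉ p ∧ ∀ x ∈ (W : Set X), ∃ D : X.Opens, ∃ hD : D ≤ W, x ∈ D ∧
      (X.presheaf.map (homOfLE hD).op).hom ((X.presheaf.map (homOfLE hWV).op).hom w * m) = 0 := by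
    refine hW.induction_on (p := fun T => ∃ w, w ∉ p ∧ ∀ x ∈ T, ∃ D : X.Opens, ∃ hD : D ≤ W,
      x ∈ D ∧ (X.presheaf.map (homOfLE hD).op).hom
        ((X.presheaf.map (homOfLE hWV).op).hom w * m) = 0) ?_ ?_ ?_ ?_
    · exact ⟨1, fun h => (inferInstance : p.IsPrime).ne_top ((Ideal.eq_top_iff_one p).2 h),
        fun x hx => absurd hx (Set.notMem_empty x)⟩
    · rintro s t hst ⟨w, hwp, hw⟩
      exact ⟨w, hwp, fun x hx => hw x (hst hx)⟩
    · rintro s t ⟨w₁, hw₁p, hw₁⟩ ⟨w₂, hw₂p, hw₂⟩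
      refine ⟨w₁ * w₂, fun h => ?_, ?_⟩
      · rcases Ideal.IsPrime.mem_or_mem inferInstance h with h | h
        · exact hw₁p h
        · exact hw₂p h
      · rintro x (hx | hx)
        · obtain ⟨D, hD, hxD, h0⟩ := hw₁ x hx
          refine ⟨D, hD, hxD, ?_⟩
          have : (X.presheaf.map (homOfLE hWV).op).hom (w₁ * w₂) * m =
              (X.presheaf.map (homOfLE hWV).op).hom w₂ *
                ((X.presheaf.map (homOfLE hWV).op).hom w₁ * m) := by
            rw [map_mul]; ring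
          rw [this, map_mul, h0, mul_zero]
        · obtain ⟨D, hD, hxD, h0⟩ := hw₂ x hx
          refine ⟨D, hD, hxD, ?_⟩
          have : (X.presheaf.map (homOfLE hWV).op).hom (w₁ * w₂) * m =
              (X.presheaf.map (homOfLE hWV).op).hom w₁ *
                ((X.presheaf.map (homOfLE hWV).op).hom w₂ * m) := by
            rw [map_mul]; ring
          rw [this, map_mul, h0, mul_zero]
    · intro x hx
      obtain ⟨g, hg1, hg2⟩ := hV.exists_basicOpen_le (V := W) ⟨x, hx⟩ (hWV hx)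
      obtain ⟨w, hwp, hw⟩ := exists_notMem_res_eq_zero hV hWV p α hα m hm g hg1
      refine ⟨(X.basicOpen g : Set X), mem_nhdsWithin_of_mem_nhds
        ((X.basicOpen g).2.mem_nhds hg2), w, hwp, fun y hy => ⟨X.basicOpen g, hg1, hy, hw⟩⟩
  obtain ⟨w, hwp, hw⟩ := key
  refine ⟨w, hwp, ?_⟩
  refine TopCat.Presheaf.IsSheaf.section_ext X.sheaf.2 (U := Opposite.op W) ?_
  intro x hx
  obtain ⟨D, hD, hxD, h0⟩ := hw x hx
  refine ⟨D, hD, hxD, ?_⟩
  exact h0.trans (map_zero _).symm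

end Groth.Agent.Lib.Helper24.Hartogs
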