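import Mathlib
import Groth.Agent.Lib.Helper24.Hartogs.Tors
import Groth.Agent.Lib.Helper24.SchDense.Key

/-!
# Hartogs: sections over an affine open extend uniquely across a closed set of depth ≥ 2
-/

set_option autoImplicit false
universe u

open AlgebraicGeometry CategoryTheory Limits TopologicalSpace

namespace Groth.Agent.Lib.Helper24.Hartogs

theorem hartogs_injective (X : Scheme.{u}) (U : X.Opens)
    (hZ : ∀ z : X, z ∉ U → ∃ a ∈ IsLocalRing.maximalIdeal (X.presheaf.stalk z),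
      IsSMulRegular (X.presheaf.stalk z) a)
    {V W : X.Opens} (hV : IsAffineOpen V) (hWV : W ≤ V) (hVU : V ⊓ U ≤ W) :
    Function.Injective (X.presheaf.map (homOfLE hWV).op).hom := by
  rw [injective_iff_map_eq_zero]
  intro a ha
  apply SchDense.eq_zero_of_ι_app_eq_zero X U hZ hV a
  rw [Scheme.Opens.ι_app]
  have hle : U.ι ''ᵁ U.ι ⁻¹ᵁ V ≤ W := by
    rintro x ⟨y, hy, rfl⟩
    exact hVU ⟨hy, y.2⟩
  have := res_res hWV hle a
  rw [ha, map_zero] at this
  exact this.symm

theorem hartogs_surjective (X : Scheme.{u}) (U : X.Opens)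
    (hZ : ∀ z : X, z ∉ U → ∃ a b : X.presheaf.stalk z,
      a ∈ IsLocalRing.maximalIdeal (X.presheaf.stalk z) ∧
      b ∈ IsLocalRing.maximalIdeal (X.presheaf.stalk z) ∧
      RingTheory.Sequence.IsWeaklyRegular (X.presheaf.stalk z) [a, b])
    {V W : X.Opens} (hV : IsAffineOpen V) (hWV : W ≤ V) (hVU : V ⊓ U ≤ W)
    (hW : IsCompact (W : Set X)) :
    Function.Surjective (X.presheaf.map (homOfLE hWV).op).hom := by
  have hZ1 : ∀ z : X, z ∉ U → ∃ a ∈ IsLocalRing.maximalIdeal (X.presheaf.stalk z),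
      IsSMulRegular (X.presheaf.stalk z) a := by
    intro z hz
    obtain ⟨a, b, ha, -, hab⟩ := hZ z hz
    rw [RingTheory.Sequence.isWeaklyRegular_cons_iff] at hab
    exact ⟨a, ha, hab.1⟩
  have hinj := hartogs_injective X U hZ1 hV hWV hVU
  intro s
  let J : Ideal Γ(X, V) :=
    { carrier := {a | ∃ c, (X.presheaf.map (homOfLE hWV).op).hom c =
        (X.presheaf.map (homOfLE hWV).op).hom a * s}
      add_mem' := by
        rintro a b ⟨c, hc⟩ ⟨d, hd⟩
        exact ⟨c + d, by rw [map_add, map_add, hc, hd]; ring⟩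
      zero_mem' := ⟨0, by rw [map_zero, zero_mul]⟩
      smul_mem' := by
        rintro r a ⟨c, hc⟩
        exact ⟨r * c, by rw [smul_eq_mul, map_mul, map_mul, hc]; ring⟩ }
  have hJ : ∀ a, a ∈ J ↔ ∃ c, (X.presheaf.map (homOfLE hWV).op).hom c =
      (X.presheaf.map (homOfLE hWV).op).hom a * s := fun a => Iff.rfl
  by_cases hJtop : J = ⊤
  · have h1 : (1 : Γ(X, V)) ∈ J := hJtop ▸ Submodule.mem_top
    obtain ⟨c, hc⟩ := (hJ 1).1 h1
    exact ⟨c, by rw [hc, map_one, one_mul]⟩
  exfalso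
  obtain ⟨⟨p, hp⟩⟩ := Ideal.nonempty_minimalPrimes hJtop
  haveI : p.IsPrime := hp.1.1
  have hzV : hV.fromSpec ⟨p, inferInstance⟩ ∈ V := (hV.isoSpec.inv _).2
  have hzU : hV.fromSpec ⟨p, inferInstance⟩ ∉ U := by
    intro hzU
    obtain ⟨g, hg1, hg2⟩ := hV.exists_basicOpen_le (V := W)
      ⟨hV.fromSpec ⟨p, inferInstance⟩, hVU ⟨hzV, hzU⟩⟩ hzV
    -- a power of `g` lies in `J`
    letI : Algebra Γ(X, V) Γ(X, X.basicOpen g) :=
      (X.presheaf.map (homOfLE (X.basicOpen_le g)).op).hom.toAlgebra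
    haveI : IsLocalization.Away g Γ(X, X.basicOpen g) :=
      hV.isLocalization_of_eq_basicOpen g (homOfLE (X.basicOpen_le g)) rfl
    have halg : ∀ a : Γ(X, V), algebraMap Γ(X, V) Γ(X, X.basicOpen g) a =
        (X.presheaf.map (homOfLE hg1).op).hom ((X.presheaf.map (homOfLE hWV).op).hom a) := by
      intro a
      rw [res_res]
      rfl
    obtain ⟨⟨n, ⟨_, k, rfl⟩⟩, hnk⟩ := IsLocalization.surj (Submonoid.powers g)
      ((X.presheaf.map (homOfLE hg1).op).hom s)
    simp only at hnk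
    have hle : X.basicOpen ((X.presheaf.map (homOfLE hWV).op).hom g) ≤ X.basicOpen g := by
      rw [Scheme.basicOpen_res]
      exact inf_le_right
    have h0 : (X.presheaf.map (homOfLE (X.basicOpen_le
        ((X.presheaf.map (homOfLE hWV).op).hom g))).op).hom
        ((X.presheaf.map (homOfLE hWV).op).hom (g ^ k) * s -
          (X.presheaf.map (homOfLE hWV).op).hom n) = 0 := by
      have h1 : (X.presheaf.map (homOfLE hg1).op).hom
          ((X.presheaf.map (homOfLE hWV).op).hom (g ^ k) * s -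
            (X.presheaf.map (homOfLE hWV).op).hom n) = 0 := by
        rw [map_sub, map_mul, ← halg, ← halg, mul_comm, hnk, sub_self]
      have h2 := res_res hg1 hle ((X.presheaf.map (homOfLE hWV).op).hom (g ^ k) * s -
            (X.presheaf.map (homOfLE hWV).op).hom n)
      rw [h1, map_zero] at h2
      exact h2.symm
    obtain ⟨N, hN⟩ := exists_pow_mul_eq_zero_of_res_basicOpen_eq_zero_of_isCompact X hW
      ((X.presheaf.map (homOfLE hWV).op).hom (g ^ k) * s -
        (X.presheaf.map (homOfLE hWV).op).hom n) ((X.presheaf.map (homOfLE hWV).op).hom g) h0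
    have h2 : g ^ (N + k) ∈ J := by
      refine (hJ _).2 ⟨g ^ N * n, ?_⟩
      rw [mul_sub, sub_eq_zero] at hN
      rw [pow_add, map_mul, map_mul, map_pow, mul_assoc, hN]
    have h3 : g ∈ p := Ideal.IsPrime.mem_of_pow_mem inferInstance _ (hp.1.2 h2)
    have h4 : (⟨p, inferInstance⟩ : PrimeSpectrum Γ(X, V)) ∈
        hV.fromSpec ⁻¹ᵁ X.basicOpen g := hg2
    rw [hV.fromSpec_preimage_basicOpen g] at h4
    exact h4 h3
  obtain ⟨a, b, ha, hb, hab⟩ := hZ _ hzU
  letI : Algebra Γ(X, V) (X.presheaf.stalk (hV.fromSpec ⟨p, inferInstance⟩)) :=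
    TopCat.Presheaf.algebra_section_stalk X.presheaf ⟨_, hzV⟩
  haveI : IsLocalization.AtPrime (X.presheaf.stalk (hV.fromSpec ⟨p, inferInstance⟩)) p :=
    hV.isLocalization_stalk' ⟨p, inferInstance⟩ hzV
  refine false_of_minimalPrime (S := X.presheaf.stalk (hV.fromSpec ⟨p, inferInstance⟩))
    (X.presheaf.map (homOfLE hWV).op).hom p hinj ?_ s J hJ hp a b ha hb hab
  intro α m hα hm
  refine exists_notMem_mul_eq_zero hV hWV hW p α ?_ m hm
  intro x hx
  have h1 : algebraMap Γ(X, V) (X.presheaf.stalk (hV.fromSpec ⟨p, inferInstance⟩)) x = 0 := by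
    apply hα
    rw [← map_mul, hx, map_zero]
  rw [IsLocalization.map_eq_zero_iff p.primeCompl] at h1
  obtain ⟨⟨w, hw⟩, hwx⟩ := h1
  exact ⟨w, hw, hwx⟩

end Groth.Agent.Lib.Helper24.Hartogs
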