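import Mathlib
import Groth.Agent.Lib.Helper24.Hartogs.Sections
import Groth.Agent.Lib.Helper24.SchDense.Main14271

/-!
# S14272: sections of affine morphisms extend uniquely across closed sets of depth ≥ 2
-/

set_option autoImplicit false
universe u

open AlgebraicGeometry CategoryTheory Limits TopologicalSpace

namespace Groth.Agent.Lib.Helper24.Hartogs

theorem bijective_of_comp {T Z X : Scheme.{u}} (k : T ⟶ Z) (i : Z ⟶ X) (j : T ⟶ X)
    (h : k ≫ i = j) (V : X.Opens) (hk : Function.Injective (k.app (i ⁻¹ᵁ V)).hom)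
    (hj : Function.Bijective (j.app V).hom) : Function.Bijective (i.app V).hom := by
  subst h
  rw [Scheme.Hom.comp_app] at hj
  have hj' : Function.Bijective ((k.app (i ⁻¹ᵁ V)).hom ∘ (i.app V).hom) := hj
  refine ⟨Function.Injective.of_comp hj'.1, fun y => ?_⟩
  obtain ⟨a, ha⟩ := hj'.2 ((k.app (i ⁻¹ᵁ V)).hom y)
  exact ⟨a, hk ha⟩

theorem ι_app_bijective (X : Scheme.{u}) (U : X.Opens) [QuasiCompact U.ι]
    (hZ : ∀ z : X, z ∉ U → ∃ a b : X.presheaf.stalk z,
      a ∈ IsLocalRing.maximalIdeal (X.presheaf.stalk z) ∧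
      b ∈ IsLocalRing.maximalIdeal (X.presheaf.stalk z) ∧
      RingTheory.Sequence.IsWeaklyRegular (X.presheaf.stalk z) [a, b])
    {V : X.Opens} (hV : IsAffineOpen V) : Function.Bijective (U.ι.app V).hom := by
  have hZ1 : ∀ z : X, z ∉ U → ∃ a ∈ IsLocalRing.maximalIdeal (X.presheaf.stalk z),
      IsSMulRegular (X.presheaf.stalk z) a := by
    intro z hz
    obtain ⟨a, b, ha, -, hab⟩ := hZ z hz
    rw [RingTheory.Sequence.isWeaklyRegular_cons_iff] at hab
    exact ⟨a, ha, hab.1⟩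
  rw [Scheme.Opens.ι_app]
  have hVU : V ⊓ U ≤ U.ι ''ᵁ U.ι ⁻¹ᵁ V := by
    rintro x ⟨hxV, hxU⟩
    exact ⟨⟨x, hxU⟩, hxV, rfl⟩
  have hW : IsCompact ((U.ι ''ᵁ U.ι ⁻¹ᵁ V : X.Opens) : Set X) := by
    have h1 : IsCompact ((U.ι ⁻¹ᵁ V : U.toScheme.Opens) : Set U.toScheme) :=
      QuasiCompact.isCompact_preimage (f := U.ι) _ V.2 hV.isCompact
    exact h1.image U.ι.continuous
  exact ⟨hartogs_injective X U hZ1 hV _ hVU, hartogs_surjective X U hZ hV _ hVU hW⟩

theorem isIso_of_app_bijective {Z X : Scheme.{u}} (g : Z ⟶ X) [IsAffineHom g]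
    (h : ∀ V : X.Opens, IsAffineOpen V → Function.Bijective (g.app V).hom) : IsIso g := by
  rw [← MorphismProperty.isomorphisms.iff,
    IsZariskiLocalAtTarget.iff_of_iSup_eq_top (P := MorphismProperty.isomorphisms Scheme)
      (U := fun V : X.affineOpens => V.1) (iSup_affineOpens_eq_top X)]
  intro V
  rw [MorphismProperty.isomorphisms.iff, isIso_morphismRestrict_iff_isIso_app _ V.2]
  exact (ConcreteCategory.isIso_iff_bijective _).2 (h V.1 V.2)

theorem main14272 (X : Scheme.{u}) (U : X.Opens) [QuasiCompact U.ι]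
    (hZ : ∀ z : X, z ∉ U → ∃ a b : X.presheaf.stalk z,
      a ∈ IsLocalRing.maximalIdeal (X.presheaf.stalk z) ∧
      b ∈ IsLocalRing.maximalIdeal (X.presheaf.stalk z) ∧
      RingTheory.Sequence.IsWeaklyRegular (X.presheaf.stalk z) [a, b])
    (Y : Scheme.{u}) (f : Y ⟶ X) [IsAffineHom f]
    (t : (U : Scheme.{u}) ⟶ Y) (ht : t ≫ f = U.ι) :
    ∃! s : X ⟶ Y, s ≫ f = 𝟙 X ∧ U.ι ≫ s = t := by
  have hZ1 : ∀ z : X, z ∉ U → ∃ a ∈ IsLocalRing.maximalIdeal (X.presheaf.stalk z),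
      IsSMulRegular (X.presheaf.stalk z) a := by
    intro z hz
    obtain ⟨a, b, ha, -, hab⟩ := hZ z hz
    rw [RingTheory.Sequence.isWeaklyRegular_cons_iff] at hab
    exact ⟨a, ha, hab.1⟩
  haveI : QuasiCompact (t ≫ f) := by rw [ht]; infer_instance
  haveI : QuasiCompact t := QuasiCompact.of_comp t f
  have hg : t.toImage ≫ (t.imageι ≫ f) = U.ι := by
    rw [← Category.assoc, Scheme.Hom.toImage_imageι, ht]
  haveI : IsIso (t.imageι ≫ f) := by
    apply isIso_of_app_bijective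
    intro V hV
    have hinj : Function.Injective (t.toImage.app ((t.imageι ≫ f) ⁻¹ᵁ V)).hom :=
      Scheme.Hom.toImage_app_injective t ⟨f ⁻¹ᵁ V, hV.preimage f⟩
    exact bijective_of_comp t.toImage (t.imageι ≫ f) U.ι hg V hinj (ι_app_bijective X U hZ hV)
  refine ⟨inv (t.imageι ≫ f) ≫ t.imageι, ⟨?_, ?_⟩, ?_⟩
  · rw [Category.assoc, IsIso.inv_hom_id]
  · rw [← hg, Category.assoc, IsIso.hom_inv_id_assoc, Scheme.Hom.toImage_imageι]
  · rintro s ⟨hs1, hs2⟩
    refine SchDense.main14271 X U hZ1 Y f s _ hs1 ?_ ?_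
    · rw [Category.assoc, IsIso.inv_hom_id]
    · rw [hs2, ← hg, Category.assoc, IsIso.hom_inv_id_assoc, Scheme.Hom.toImage_imageι]

end Groth.Agent.Lib.Helper24.Hartogs
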